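import Groth.Prelude.Def_GSzMilK
import Mathlib.Algebra.Group.Subgroup.Lattice
import Mathlib.LinearAlgebra.Multilinear.Curry
import Mathlib.GroupTheory.Perm.Fin
import Mathlib.GroupTheory.Perm.Sign

/-!
Symbol calculus for Milnor K-groups: generation by symbols, product with a symbol of degree one,
antisymmetry.
-/

universe u v w

open MilK Function

namespace Groth.Agent.MilK95

variable {F : Type u} [Field F]

/-- Homomorphisms out of a Milnor K-group agree if they agree on symbols. -/
theorem hom_ext {M : Type w} [AddCommGroup M] {n : ℕ} {f g : K F n →+ M}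
    (h : ∀ x : Fin n → Fˣ, f (symbol x) = g (symbol x)) : f = g := by
  ext z
  obtain ⟨t, rfl⟩ := mk_surjective F n z
  induction t using PiTensorProduct.induction_on with
  | smul_tprod r x =>
    rw [map_zsmul, map_zsmul, map_zsmul, mk_tprod, h]
  | add a b ha hb => simp only [map_add, ha, hb]

/-- Symbols generate. -/
theorem closure_symbol_eq_top (F : Type u) [Field F] (n : ℕ) :
    AddSubgroup.closure (Set.range (symbol (F := F) (n := n))) = ⊤ := by
  rw [eq_top_iff]
  rintro z -
  obtain ⟨t, rfl⟩ := mk_surjective F n z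
  induction t using PiTensorProduct.induction_on with
  | smul_tprod r x =>
    rw [map_zsmul, mk_tprod]
    exact AddSubgroup.zsmul_mem _ (AddSubgroup.subset_closure (Set.mem_range_self (fun i => (x i).toMul))) _
  | add a b ha hb =>
    rw [map_add]
    exact AddSubgroup.add_mem _ ha hb

/-- Induction on symbols. -/
theorem symbol_induction {n : ℕ} {p : K F n → Prop} (z : K F n)
    (hs : ∀ x : Fin n → Fˣ, p (symbol x)) (h0 : p 0) (ha : ∀ a b, p a → p b → p (a + b))
    (hn : ∀ a, p a → p (-a)) : p z := by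
  have hz : z ∈ AddSubgroup.closure (Set.range (symbol (F := F) (n := n))) := by
    rw [closure_symbol_eq_top]; trivial
  induction hz using AddSubgroup.closure_induction with
  | mem x hx => obtain ⟨x, rfl⟩ := hx; exact hs x
  | zero => exact h0
  | add a b _ _ ha' hb' => exact ha a b ha' hb'
  | neg a _ ha' => exact hn a ha'

/-- The symbol as a multilinear map. -/
noncomputable def symM (F : Type u) [Field F] (n : ℕ) :
    MultilinearMap ℤ (fun _ : Fin n => Additive Fˣ) (K F n) where
  toFun x := mk F n (PiTensorProduct.tprod ℤ x)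
  map_update_add' x i a b := by rw [MultilinearMap.map_update_add, map_add]
  map_update_smul' x i c a := by rw [MultilinearMap.map_update_smul, map_zsmul]

theorem symM_apply {n : ℕ} (x : Fin n → Additive Fˣ) :
    symM F n x = symbol fun i => (x i).toMul := rfl

theorem symbol_eq_symM {n : ℕ} (x : Fin n → Fˣ) :
    symbol x = symM F n fun i => Additive.ofMul (x i) := rfl

theorem update_ofMul {n : ℕ} (x : Fin n → Fˣ) (i : Fin n) (a : Fˣ) :
    (fun j => Additive.ofMul (update x i a j)) =
      update (fun j => Additive.ofMul (x j)) i (Additive.ofMul a) :=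
  funext fun j => apply_update (fun _ => Additive.ofMul) x i a j

theorem symbol_update_mul {n : ℕ} (x : Fin n → Fˣ) (i : Fin n) (a b : Fˣ) :
    symbol (update x i (a * b)) = symbol (update x i a) + symbol (update x i b) := by
  simp only [symbol_eq_symM, update_ofMul, ofMul_mul, MultilinearMap.map_update_add]

theorem symbol_update_zpow {n : ℕ} (x : Fin n → Fˣ) (i : Fin n) (a : Fˣ) (c : ℤ) :
    symbol (update x i (a ^ c)) = c • symbol (update x i a) := by
  simp only [symbol_eq_symM, update_ofMul, ofMul_zpow, MultilinearMap.map_update_smul]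

theorem symbol_update_one {n : ℕ} (x : Fin n → Fˣ) (i : Fin n) :
    symbol (update x i 1) = 0 := by
  simp only [symbol_eq_symM, update_ofMul, ofMul_one, MultilinearMap.map_update_zero]

theorem symbol_update_inv {n : ℕ} (x : Fin n → Fˣ) (i : Fin n) (a : Fˣ) :
    symbol (update x i a⁻¹) = -symbol (update x i a) := by
  have h := symbol_update_mul x i a a⁻¹
  rw [mul_inv_cancel, symbol_update_one] at h
  exact eq_neg_of_add_eq_zero_right h.symm

theorem symbol_eq_zero_of_eq_one {n : ℕ} (x : Fin n → Fˣ) (i : Fin n) (h : x i = 1) :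
    symbol x = 0 := by
  rw [← update_eq_self i x, h, symbol_update_one]

theorem symbol_steinberg {n : ℕ} (x : Fin n → Fˣ) {i j : Fin n} (hij : i ≠ j)
    (h : (x i : F) + (x j : F) = 1) : symbol x = 0 := by
  rcases lt_or_gt_of_ne hij with h' | h'
  · exact symbol_eq_zero_of_isSteinberg x ⟨i, j, h', h⟩
  · exact symbol_eq_zero_of_isSteinberg x ⟨j, i, h', by rwa [add_comm]⟩

theorem symbol_update_neg_self {n : ℕ} (x : Fin n → Fˣ) {i j : Fin n} (hij : i ≠ j) (a : Fˣ) :
    symbol (update (update x i a) j (-a)) = 0 := by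
  classical
  by_cases ha : a = 1
  · exact symbol_eq_zero_of_eq_one _ i (by rw [update_of_ne hij, update_self, ha])
  have ha1 : (1 : F) - a ≠ 0 := sub_ne_zero.mpr fun h => ha (Units.ext h.symm)
  have ha2 : (1 : F) - ((a⁻¹ : Fˣ) : F) ≠ 0 :=
    sub_ne_zero.mpr fun h => ha (inv_eq_one.mp (Units.ext h.symm))
  have key : -a = Units.mk0 _ ha1 * (Units.mk0 _ ha2)⁻¹ := by
    rw [eq_mul_inv_iff_mul_eq]
    ext
    simp only [Units.val_mul, Units.val_neg, Units.val_mk0]
    rw [neg_mul, mul_sub, mul_one, Units.mul_inv, neg_sub]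
  rw [key, symbol_update_mul, symbol_update_inv,
    symbol_steinberg _ hij (by simp [update_of_ne hij]), zero_add, neg_eq_zero,
    update_comm hij, ← neg_neg (symbol _), ← symbol_update_inv, update_comm hij.symm]
  rw [symbol_steinberg _ hij (by simp [update_of_ne hij]), neg_zero]

theorem symbol_update_anticomm {n : ℕ} (x : Fin n → Fˣ) {i j : Fin n} (hij : i ≠ j) (a b : Fˣ) :
    symbol (update (update x i a) j b) = -symbol (update (update x i b) j a) := by
  have hm : ∀ (c d e : Fˣ), symbol (update (update x i (c * d)) j e) =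
      symbol (update (update x i c) j e) + symbol (update (update x i d) j e) := fun c d e => by
    rw [update_comm hij, symbol_update_mul, update_comm hij.symm, update_comm hij.symm]
  have h0 := symbol_update_neg_self x hij (a * b)
  rw [hm, show -(a * b) = -a * b from (neg_mul a b).symm, symbol_update_mul, symbol_update_neg_self x hij a,
    show -a * b = a * -b by rw [neg_mul, mul_neg], symbol_update_mul, symbol_update_neg_self x hij b,
    add_zero, zero_add] at h0
  exact eq_neg_of_add_eq_zero_left h0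

theorem symbol_comp_swap {n : ℕ} (x : Fin n → Fˣ) {i j : Fin n} (hij : i ≠ j) :
    symbol (x ∘ Equiv.swap i j) = -symbol x := by
  have h1 : x ∘ Equiv.swap i j = update (update x i (x j)) j (x i) := by
    rw [Equiv.comp_swap_eq_update, update_comm hij]
  rw [h1, symbol_update_anticomm x hij]
  simp

theorem symbol_comp_perm {n : ℕ} (x : Fin n → Fˣ) (σ : Equiv.Perm (Fin n)) :
    symbol (x ∘ σ) = (Equiv.Perm.sign σ : ℤ) • symbol x := by
  induction σ using Equiv.Perm.swap_induction_on' with
  | one => simp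
  | mul_swap σ a b hab ih =>
    rw [Equiv.Perm.coe_mul, ← Function.comp_assoc, symbol_comp_swap _ hab, ih]
    simp [Equiv.Perm.sign_swap hab, neg_smul]

/-! ### Product with a symbol of degree one -/

/-- `sc a {x₁, …} = {a, x₁, …}`. -/
noncomputable def sc {n : ℕ} (a : Fˣ) : K F n →+ K F (n + 1) :=
  lift ((symM F (n + 1)).curryLeft (Additive.ofMul a)) (by
    intro x hx
    obtain ⟨i, j, hij, h⟩ := hx
    rw [MultilinearMap.curryLeft_apply, symM_apply]
    refine symbol_eq_zero_of_isSteinberg _ ⟨i.succ, j.succ, Fin.succ_lt_succ_iff.mpr hij, ?_⟩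
    simpa using h)

@[simp]
theorem sc_symbol {n : ℕ} (a : Fˣ) (x : Fin n → Fˣ) :
    sc a (symbol x) = symbol (Fin.cons a x) := by
  rw [sc, lift_symbol, MultilinearMap.curryLeft_apply, symM_apply]
  congr 1

theorem sc_mul {n : ℕ} (a b : Fˣ) : (sc (a * b) : K F n →+ _) = sc a + sc b :=
  hom_ext fun x => by
    simp only [AddMonoidHom.add_apply, sc_symbol]
    simpa using symbol_update_mul (Fin.cons 1 x) 0 a b

theorem sc_mul_apply {n : ℕ} (a b : Fˣ) (z : K F n) : sc (a * b) z = sc a z + sc b z := by
  rw [sc_mul, AddMonoidHom.add_apply]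

/-- `sc` as a bundled map in the unit as well. -/
noncomputable def scHom (F : Type u) [Field F] (n : ℕ) : Additive Fˣ →+ K F n →+ K F (n + 1) :=
  AddMonoidHom.mk' (fun a => sc a.toMul) fun a b => sc_mul a.toMul b.toMul

theorem scHom_apply {n : ℕ} (a : Additive Fˣ) (z : K F n) : scHom F n a z = sc a.toMul z := rfl

@[simp]
theorem sc_one {n : ℕ} (z : K F n) : sc (1 : Fˣ) z = 0 :=
  DFunLike.congr_fun (map_zero (scHom F n)) z

theorem sc_inv {n : ℕ} (a : Fˣ) (z : K F n) : sc a⁻¹ z = -sc a z :=
  DFunLike.congr_fun (map_neg (scHom F n) (Additive.ofMul a)) z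

theorem sc_zpow {n : ℕ} (a : Fˣ) (c : ℤ) (z : K F n) : sc (a ^ c) z = c • sc a z :=
  DFunLike.congr_fun (map_zsmul (scHom F n) c (Additive.ofMul a)) z

theorem sc_sc_steinberg {n : ℕ} (a b : Fˣ) (h : (a : F) + b = 1) (z : K F n) :
    sc a (sc b z) = 0 := by
  induction z using symbol_induction with
  | hs x =>
    rw [sc_symbol, sc_symbol]
    refine symbol_steinberg _ (i := 0) (j := Fin.succ 0) (Fin.succ_ne_zero 0).symm ?_
    simpa using h
  | h0 => simp
  | ha a b ha hb => simp [ha, hb]
  | hn a ha => simp [ha]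

theorem sc_sc_neg_self {n : ℕ} (a : Fˣ) (z : K F n) : sc a (sc (-a) z) = 0 := by
  induction z using symbol_induction with
  | hs x =>
    rw [sc_symbol, sc_symbol]
    have h := symbol_update_neg_self (Fin.cons a (Fin.cons (-a) x)) (i := 0) (j := Fin.succ 0)
      (Fin.succ_ne_zero 0).symm a
    rwa [show update (Fin.cons a (Fin.cons (-a) x) : Fin (n + 2) → Fˣ) 0 a = Fin.cons a (Fin.cons (-a) x) by simp,
      ← Fin.cons_update, show update (Fin.cons (-a) x : Fin (n + 1) → Fˣ) 0 (-a) = Fin.cons (-a) x by simp] at h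
  | h0 => simp
  | ha a b ha hb => simp [ha, hb]
  | hn a ha => simp [ha]

theorem sc_sc_anticomm {n : ℕ} (a b : Fˣ) (z : K F n) : sc a (sc b z) = -sc b (sc a z) := by
  have h1 : sc a (sc (-(a * b)) z) = sc a (sc b z) := by
    rw [show -(a * b) = -a * b from (neg_mul a b).symm, sc_mul_apply, map_add, sc_sc_neg_self,
      zero_add]
  have h2 : sc b (sc (-(a * b)) z) = sc b (sc a z) := by
    rw [show -(a * b) = -b * a by rw [neg_mul, mul_comm], sc_mul_apply, map_add, sc_sc_neg_self,
      zero_add]
  have h := sc_sc_neg_self (a * b) z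
  rw [sc_mul_apply, h1, h2] at h
  exact eq_neg_of_add_eq_zero_left h

theorem sc_sc_self {n : ℕ} (a : Fˣ) (z : K F n) : sc a (sc a z) = sc a (sc (-1) z) := by
  have e : a = -a * -1 := by simp
  conv_lhs => arg 2; rw [e, sc_mul_apply]
  rw [map_add, sc_sc_neg_self, zero_add]

theorem two_smul_sc_neg_one {n : ℕ} (z : K F n) : (2 : ℤ) • sc (-1 : Fˣ) z = 0 := by
  rw [← sc_zpow]
  simp

theorem neg_sc_neg_one {n : ℕ} (z : K F n) : -sc (-1 : Fˣ) z = sc (-1 : Fˣ) z := by
  rw [← sc_inv]
  simp

/-- Any symbol of positive degree is, up to sign, a product with the entry at a given position. -/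
theorem exists_sc_eq_symbol {n : ℕ} (y : Fin (n + 1) → Fˣ) (j : Fin (n + 1)) :
    ∃ z : K F n, symbol y = sc (y j) z := by
  by_cases hj : j = 0
  · subst hj
    exact ⟨symbol (Fin.tail y), by rw [sc_symbol, Fin.cons_self_tail]⟩
  refine ⟨-symbol (Fin.tail (y ∘ Equiv.swap 0 j)), ?_⟩
  have h := sc_symbol (y j) (Fin.tail (y ∘ Equiv.swap 0 j))
  rw [show y j = (y ∘ Equiv.swap 0 j) 0 by simp, Fin.cons_self_tail] at h
  rw [map_neg, show y j = (y ∘ Equiv.swap 0 j) 0 by simp, h, symbol_comp_swap y (Ne.symm hj), neg_neg]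

section Uncons

variable {M : Type w} [AddCommGroup M]

/-- Build a homomorphism on `K F (n+1)` from its values on `sc a z`. -/
noncomputable def uncons {n : ℕ} (φ : Additive Fˣ →+ K F n →+ M)
    (hφ : ∀ (a : Fˣ) (y : Fin n → Fˣ) (j : Fin n), (a : F) + y j = 1 →
      φ (Additive.ofMul a) (symbol y) = 0) : K F (n + 1) →+ M :=
  let g : Additive Fˣ →ₗ[ℤ] MultilinearMap ℤ (fun _ : Fin n => Additive Fˣ) M :=
    { toFun := fun a => (φ a).toIntLinearMap.compMultilinearMap (symM F n)
      map_add' := fun a b => by ext x; simp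
      map_smul' := fun c a => by ext x; simp [map_zsmul] }
  lift (LinearMap.uncurryLeft (M := fun _ : Fin (n + 1) => Additive Fˣ) g) (by
    intro x hx
    obtain ⟨i, j, hij, h⟩ := hx
    rw [LinearMap.uncurryLeft_apply]
    change φ (Additive.ofMul (x 0)) (symbol (Fin.tail x)) = 0
    obtain ⟨j', rfl⟩ := Fin.exists_succ_eq.mpr (Fin.pos_iff_ne_zero.mp (lt_of_le_of_lt (Fin.zero_le i) hij))
    cases i using Fin.cases with
    | zero => exact hφ _ _ j' h
    | succ i' =>
      rw [symbol_eq_zero_of_isSteinberg _ ⟨i', j', Fin.succ_lt_succ_iff.mp hij, h⟩, map_zero])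

theorem uncons_symbol {n : ℕ} (φ : Additive Fˣ →+ K F n →+ M)
    (hφ : ∀ (a : Fˣ) (y : Fin n → Fˣ) (j : Fin n), (a : F) + y j = 1 →
      φ (Additive.ofMul a) (symbol y) = 0) (x : Fin (n + 1) → Fˣ) :
    uncons φ hφ (symbol x) = φ (Additive.ofMul (x 0)) (symbol (Fin.tail x)) := by
  rw [uncons, lift_symbol, LinearMap.uncurryLeft_apply]
  rfl

theorem uncons_sc {n : ℕ} (φ : Additive Fˣ →+ K F n →+ M)
    (hφ : ∀ (a : Fˣ) (y : Fin n → Fˣ) (j : Fin n), (a : F) + y j = 1 →
      φ (Additive.ofMul a) (symbol y) = 0) (a : Fˣ) (z : K F n) :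
    uncons φ hφ (sc a z) = φ (Additive.ofMul a) z := by
  have : (uncons φ hφ).comp (sc a) = φ (Additive.ofMul a) :=
    hom_ext fun x => by simp [uncons_symbol]
  exact DFunLike.congr_fun this z

end Uncons

/-! ### Multiplication, functoriality, casts -/

theorem mul_sc {n m : ℕ} (a : Fˣ) (x : K F n) (y : K F m) :
    mul F (n + 1) m (sc a x) y = MilK.cast F (by omega) (sc a (mul F n m x y)) := by
  induction x using symbol_induction with
  | hs x =>
    induction y using symbol_induction with
    | hs y =>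
      rw [sc_symbol, mul_symbol_symbol, mul_symbol_symbol, sc_symbol, cast_symbol]
      congr 1
      rw [Fin.append_cons]
    | h0 => simp
    | ha c d hc hd => rw [map_add, hc, hd, map_add, map_add, map_add]
    | hn c hc => rw [map_neg, hc, map_neg, map_neg, map_neg]
  | h0 => simp
  | ha a b ha hb => simp [ha, hb]
  | hn a ha => simp [ha]

theorem cast_cast {n m l : ℕ} (h : n = m) (h' : m = l) (x : K F n) :
    MilK.cast F h' (MilK.cast F h x) = MilK.cast F (h.trans h') x := by
  subst h; subst h'; rfl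

theorem cast_sc {n m : ℕ} (h : n = m) (a : Fˣ) (x : K F n) :
    MilK.cast F (congrArg (· + 1) h) (sc a x) = sc a (MilK.cast F h x) := by
  subst h; rfl

theorem mul_one_symbol {n : ℕ} (a : Fˣ) (x : K F n) :
    mul F 1 n (symbol ![a]) x = MilK.cast F (Nat.add_comm n 1) (sc a x) := by
  induction x using symbol_induction with
  | hs x =>
    rw [mul_symbol_symbol, sc_symbol, cast_symbol]
    congr 1
    funext i
    rw [Fin.append_left_eq_cons]
    rfl
  | h0 => simp
  | ha a b ha hb => simp [ha, hb]
  | hn a ha => simp [ha]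

section Map

variable {E : Type v} [Field E]

theorem map_sc (φ : F →+* E) {n : ℕ} (a : Fˣ) (z : K F n) :
    map φ (n + 1) (sc a z) = sc (Units.map (φ : F →* E) a) (map φ n z) := by
  induction z using symbol_induction with
  | hs x =>
    rw [sc_symbol, map_symbol, map_symbol, sc_symbol]
    congr 1
    funext i
    cases i using Fin.cases <;> simp
  | h0 => simp
  | ha a b ha hb => simp [ha, hb]
  | hn a ha => simp [ha]

theorem map_map {G : Type w} [Field G] (φ : F →+* E) (ψ : E →+* G) {n : ℕ} (z : K F n) :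
    map ψ n (map φ n z) = map (ψ.comp φ) n z := by
  have : (map ψ n).comp (map φ n) = map (ψ.comp φ) n := hom_ext fun x => by
    simp only [AddMonoidHom.comp_apply, map_symbol]
    congr 1
  exact DFunLike.congr_fun this z

theorem map_id {n : ℕ} (z : K F n) : map (RingHom.id F) n z = z := by
  have : map (RingHom.id F) n = AddMonoidHom.id _ := hom_ext fun x => by
    simp only [map_symbol, AddMonoidHom.id_apply]
    congr 1
  exact DFunLike.congr_fun this z

theorem map_congr {φ ψ : F →+* E} (h : ∀ x, φ x = ψ x) {n : ℕ} (z : K F n) :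
    map φ n z = map ψ n z := by
  rw [RingHom.ext h]

theorem map_bijective (e : F ≃+* E) (n : ℕ) : Function.Bijective (map (e : F →+* E) n) := by
  refine ⟨Function.LeftInverse.injective (g := map (e.symm : E →+* F) n) fun z => ?_,
    Function.RightInverse.surjective (g := map (e.symm : E →+* F) n) fun z => ?_⟩ <;>
  · rw [map_map, map_congr (ψ := RingHom.id _) (by simp), map_id]

end Map

end Groth.Agent.MilK95
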