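import Groth.Prelude.Def_GSzMilK
import Mathlib.RingTheory.DiscreteValuationRing.Basic
import Mathlib.RingTheory.LocalRing.ResidueField.Basic
import Mathlib.Algebra.Group.Subgroup.ZPowers.Basic
import Mathlib.Algebra.Group.Prod

/-!
Exponent and unit part of a nonzero element of the fraction field of a DVR relative to a uniformizer.
-/

universe u v

open MilK IsLocalRing

namespace Groth.Agent.MilK95

variable (A : Type u) [CommRing A] [IsDomain A] [IsDiscreteValuationRing A]
  (L : Type v) [Field L] [Algebra A L] [IsFractionRing A L]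

/-- A structure carrying a uniformizer. -/
structure Unif : Type u where
  ϖ : A
  irr : Irreducible ϖ

variable {A} (p : Unif A)

set_option linter.unusedSectionVars false

/-- The uniformizer as a unit of the fraction field. -/
noncomputable def Unif.pi : Lˣ := unitFrac A L p.ϖ p.irr.ne_zero

@[simp]
theorem Unif.coe_pi : ((p.pi L : Lˣ) : L) = algebraMap A L p.ϖ := rfl


@[simp]
theorem coe_unitToFrac (u : Aˣ) : ((unitToFrac A L u : Lˣ) : L) = algebraMap A L u := rfl

/-- `(e, u) ↦ ϖ ^ e * u`. -/
noncomputable def Unif.split : Multiplicative ℤ × Aˣ →* Lˣ :=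
  (zpowersHom Lˣ (p.pi L)).coprod (unitToFrac A L)

theorem Unif.split_apply (e : ℤ) (u : Aˣ) :
    p.split L (Multiplicative.ofAdd e, u) = p.pi L ^ e * unitToFrac A L u := rfl

theorem Unif.pi_zpow_eq_unit {e : ℤ} {u : Aˣ} (h : p.pi L ^ e = unitToFrac A L u) : e = 0 := by
  have key : ∀ (m : ℕ) (w : Aˣ), p.pi L ^ (m + 1) ≠ unitToFrac A L w := by
    intro m w hw
    have := congrArg (fun x : Lˣ => (x : L)) hw
    simp only [Units.val_pow_eq_pow_val, Unif.coe_pi, coe_unitToFrac, ← map_pow] at this
    have h' := IsFractionRing.injective A L this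
    exact p.irr.not_isUnit ((isUnit_pow_iff (Nat.succ_ne_zero m)).mp (h'.symm ▸ w.isUnit))
  rcases Int.eq_nat_or_neg e with ⟨m, rfl | rfl⟩
  · rcases m with _ | m
    · rfl
    · exact absurd (by rw [← zpow_natCast]; exact h) (key m u)
  · rcases m with _ | m
    · rfl
    · refine absurd ?_ (key m u⁻¹)
      rw [map_inv, ← h, zpow_neg, inv_inv, zpow_natCast]

theorem Unif.split_bijective : Function.Bijective (p.split L) := by
  refine ⟨(injective_iff_map_eq_one _).mpr fun x hx => ?_, fun x => ?_⟩
  · obtain ⟨e, u⟩ := x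
    change p.pi L ^ Multiplicative.toAdd e * unitToFrac A L u = 1 at hx
    have he : Multiplicative.toAdd e = 0 :=
      p.pi_zpow_eq_unit L (u := u⁻¹) (by rw [map_inv]; exact eq_inv_of_mul_eq_one_left hx)
    rw [he, zpow_zero, one_mul] at hx
    refine Prod.ext (Multiplicative.toAdd.injective he) (Units.ext ?_)
    exact IsFractionRing.injective A L (by simpa using congrArg (fun x : Lˣ => (x : L)) hx)
  · obtain ⟨a, b, hb, h⟩ := IsFractionRing.div_surjective A (x : L)
    have ha : a ≠ 0 := by
      rintro rfl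
      simp at h
      exact x.ne_zero h.symm
    obtain ⟨i, u, rfl⟩ := IsDiscreteValuationRing.eq_unit_mul_pow_irreducible ha p.irr
    obtain ⟨j, w, rfl⟩ := IsDiscreteValuationRing.eq_unit_mul_pow_irreducible (nonZeroDivisors.ne_zero hb) p.irr
    refine ⟨(Multiplicative.ofAdd ((i : ℤ) - j), u * w⁻¹), ?_⟩
    rw [Unif.split_apply, zpow_sub, map_mul, map_inv]
    ext
    rw [← h]
    simp only [Units.val_mul, Units.val_inv_eq_inv_val, zpow_natCast,
      Unif.coe_pi, coe_unitToFrac, map_mul, map_pow, Units.val_pow_eq_pow_val, div_eq_mul_inv, mul_inv]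
    ring

/-- The decomposition `Lˣ ≃ ℤ × Aˣ`. -/
noncomputable def Unif.equiv : Multiplicative ℤ × Aˣ ≃* Lˣ :=
  MulEquiv.ofBijective (p.split L) (p.split_bijective L)

variable {L}

/-- The exponent of the uniformizer. -/
noncomputable def Unif.ord : Additive Lˣ →+ ℤ where
  toFun x := Multiplicative.toAdd ((p.equiv L).symm x.toMul).1
  map_zero' := by simp
  map_add' a b := by simp

/-- The unit part. -/
noncomputable def Unif.up : Lˣ →* Aˣ := (MonoidHom.snd _ _).comp (p.equiv L).symm.toMonoidHom

/-- Residue of the unit part. -/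
noncomputable def Unif.res : Lˣ →* (ResidueField A)ˣ := (unitResidue A).comp p.up

theorem Unif.ord_split (e : ℤ) (u : Aˣ) :
    p.ord (Additive.ofMul (p.pi L ^ e * unitToFrac A L u)) = e := by
  change Multiplicative.toAdd ((p.equiv L).symm (p.equiv L (Multiplicative.ofAdd e, u))).1 = e
  rw [MulEquiv.symm_apply_apply]
  rfl

theorem Unif.up_split (e : ℤ) (u : Aˣ) : p.up (p.pi L ^ e * unitToFrac A L u) = u := by
  change ((p.equiv L).symm (p.equiv L (Multiplicative.ofAdd e, u))).2 = u
  rw [MulEquiv.symm_apply_apply]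

theorem Unif.res_split (e : ℤ) (u : Aˣ) :
    p.res (p.pi L ^ e * unitToFrac A L u) = unitResidue A u := by
  rw [Unif.res, MonoidHom.comp_apply, p.up_split]

theorem Unif.eq_split (x : Lˣ) :
    x = p.pi L ^ p.ord (Additive.ofMul x) * unitToFrac A L (p.up x) :=
  ((p.equiv L).apply_symm_apply x).symm

@[simp]
theorem Unif.ord_unit (u : Aˣ) : p.ord (Additive.ofMul (unitToFrac A L u)) = 0 := by
  simpa using p.ord_split (L := L) 0 u

@[simp]
theorem Unif.up_unit (u : Aˣ) : p.up (unitToFrac A L u) = u := by
  simpa using p.up_split (L := L) 0 u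

@[simp]
theorem Unif.res_unit (u : Aˣ) : p.res (unitToFrac A L u) = unitResidue A u := by
  simpa using p.res_split (L := L) 0 u

@[simp]
theorem Unif.ord_pi : p.ord (Additive.ofMul (p.pi L)) = 1 := by
  simpa using p.ord_split (L := L) 1 1

@[simp]
theorem Unif.res_pi : p.res (p.pi L) = 1 := by
  simpa using p.res_split (L := L) 1 1

theorem Unif.exists_eq_of_nonneg (x : Lˣ) (h : 0 ≤ p.ord (Additive.ofMul x)) :
    ∃ a : A, algebraMap A L a = x ∧
      residue A a = if p.ord (Additive.ofMul x) = 0 then (p.res x : ResidueField A) else 0 := by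
  obtain ⟨m, hm⟩ := Int.eq_ofNat_of_zero_le h
  refine ⟨p.ϖ ^ m * (p.up x : A), ?_, ?_⟩
  · conv_rhs => rw [p.eq_split x, hm]
    simp
  · rw [hm, map_mul, map_pow]
    rcases m with _ | m
    · simp [Unif.res, unitResidue]
    · rw [if_neg (by omega), pow_succ, show residue A p.ϖ = 0 from (residue_eq_zero_iff _).mpr
        ((IsDiscreteValuationRing.irreducible_iff_uniformizer _).mp p.irr ▸ Ideal.mem_span_singleton_self _)]
      simp

/-- The four possibilities for a pair of units of `L` adding up to one. -/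
theorem Unif.steinberg_cases (a b : Lˣ) (h : (a : L) + b = 1) :
    (0 < p.ord (Additive.ofMul a) ∧ p.ord (Additive.ofMul b) = 0 ∧ p.res b = 1) ∨
    (0 < p.ord (Additive.ofMul b) ∧ p.ord (Additive.ofMul a) = 0 ∧ p.res a = 1) ∨
    (p.ord (Additive.ofMul a) = 0 ∧ p.ord (Additive.ofMul b) = 0 ∧
      (p.res a : ResidueField A) + p.res b = 1) ∨
    (p.ord (Additive.ofMul a) < 0 ∧ p.ord (Additive.ofMul b) = p.ord (Additive.ofMul a) ∧
      p.res b = -p.res a) := by
  have key : ∀ k : ℕ, -(k : ℤ) ≤ p.ord (Additive.ofMul a) → -(k : ℤ) ≤ p.ord (Additive.ofMul b) →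
      ((if p.ord (Additive.ofMul a) = -(k : ℤ) then (p.res a : ResidueField A) else 0) +
        if p.ord (Additive.ofMul b) = -(k : ℤ) then (p.res b : ResidueField A) else 0) =
        if k = 0 then 1 else 0 := by
    intro k ha hb
    have shift : ∀ x : Lˣ, p.ord (Additive.ofMul (p.pi L ^ k * x)) = k + p.ord (Additive.ofMul x) ∧
        p.res (p.pi L ^ k * x) = p.res x := fun x => ⟨by simp [ofMul_mul, ofMul_pow], by simp⟩
    obtain ⟨a', ha', ra⟩ := p.exists_eq_of_nonneg (p.pi L ^ k * a) (by rw [(shift a).1]; omega)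
    obtain ⟨b', hb', rb⟩ := p.exists_eq_of_nonneg (p.pi L ^ k * b) (by rw [(shift b).1]; omega)
    obtain ⟨hsa, hsa'⟩ := shift a
    obtain ⟨hsb, hsb'⟩ := shift b
    rw [hsa, hsa'] at ra
    rw [hsb, hsb'] at rb
    have e : a' + b' = p.ϖ ^ k := IsFractionRing.injective A L (by
      simp [map_add, ha', hb', ← mul_add, h])
    have hr := congrArg (residue A) e
    rw [map_add, ra, rb, map_pow, show residue A p.ϖ = 0 from (residue_eq_zero_iff _).mpr
      ((IsDiscreteValuationRing.irreducible_iff_uniformizer _).mp p.irr ▸ Ideal.mem_span_singleton_self _)] at hr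
    rw [zero_pow_eq] at hr
    simp only [show ∀ t : ℤ, ((k : ℤ) + t = 0) ↔ t = -(k : ℤ) from fun t => by omega] at hr
    exact hr
  generalize hea : p.ord (Additive.ofMul a) = e at key
  generalize hfb : p.ord (Additive.ofMul b) = f at key
  have hne : ∀ u : (ResidueField A)ˣ, (u : ResidueField A) ≠ 0 := fun u => u.ne_zero
  rcases lt_trichotomy (min e f) 0 with hm | hm | hm
  · obtain ⟨k, hk⟩ : ∃ k : ℕ, min e f = -(k : ℤ) := ⟨(-min e f).toNat, by omega⟩
    have := key k (by omega) (by omega)
    rw [if_neg (show ¬ k = 0 by omega)] at this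
    rcases lt_trichotomy e f with hef | hef | hef
    · rw [if_pos (by omega), if_neg (by omega), add_zero] at this
      exact absurd this (hne _)
    · rw [if_pos (by omega), if_pos (by omega)] at this
      exact Or.inr (Or.inr (Or.inr ⟨by omega, hef.symm, Units.ext (by
        rw [Units.val_neg]; exact eq_neg_of_add_eq_zero_right this)⟩))
    · rw [if_neg (by omega), if_pos (by omega), zero_add] at this
      exact absurd this (hne _)
  · have := key 0 (by omega) (by omega)
    rw [if_pos (show (0 : ℕ) = 0 from rfl)] at this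
    rcases lt_trichotomy e f with hef | hef | hef
    · rw [if_pos (by omega), if_neg (by omega), add_zero] at this
      exact Or.inr (Or.inl ⟨by omega, by omega, Units.ext this⟩)
    · rw [if_pos (by omega), if_pos (by omega)] at this
      exact Or.inr (Or.inr (Or.inl ⟨by omega, by omega, this⟩))
    · rw [if_neg (by omega), if_pos (by omega), zero_add] at this
      exact Or.inl ⟨by omega, by omega, Units.ext this⟩
  · have := key 0 (by omega) (by omega)
    rw [if_neg (by omega), if_neg (by omega), add_zero, if_pos rfl] at this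
    exact absurd this zero_ne_one

end Groth.Agent.MilK95
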