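import Groth.Agent.MilK95.Basic
import Groth.Agent.MilK95.Val

/-!
Existence of the residue and specialisation maps of a discrete valuation ring.
-/

set_option linter.unusedSectionVars false

universe u v

open MilK IsLocalRing Function

namespace Groth.Agent.MilK95

variable (κ : Type u) [Field κ]

/-- Degree shifted Milnor K-theory: zero in degree `0`, `K κ n` in degree `n + 1`. -/
def D : ℕ → Type u
  | 0 => PUnit
  | n + 1 => K κ n

instance instAddCommGroupD : ∀ n, AddCommGroup (D κ n)
  | 0 => inferInstanceAs (AddCommGroup PUnit)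
  | n + 1 => inferInstanceAs (AddCommGroup (K κ n))

variable {κ}

/-- The identification in positive degree. -/
noncomputable def ofK {n : ℕ} : K κ n →+ D κ (n + 1) := AddMonoidHom.id (K κ n)

/-- The identification in positive degree. -/
noncomputable def toK {n : ℕ} : D κ (n + 1) →+ K κ n := AddMonoidHom.id (K κ n)

@[simp]
theorem toK_ofK {n : ℕ} (x : K κ n) : toK (ofK x) = x := rfl

/-- Multiplication of the shifted groups by a symbol of degree one. -/
noncomputable def scK : ∀ n, Additive κˣ →+ D κ n →+ K κ n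
  | 0 => 0
  | n + 1 => scHom κ n

/-- Multiplication of the shifted groups by a symbol of degree one. -/
noncomputable def scD {n : ℕ} (a : κˣ) : D κ n →+ K κ n := scK n (Additive.ofMul a)

@[simp]
theorem scD_ofK {n : ℕ} (a : κˣ) (x : K κ n) : scD a (ofK x) = sc a x := rfl

@[simp]
theorem scD_one {n : ℕ} (v : D κ n) : scD (1 : κˣ) v = 0 := by
  simp [scD]

theorem scD_mul {n : ℕ} (a b : κˣ) (v : D κ n) : scD (a * b) v = scD a v + scD b v := by
  simp [scD]

theorem sc_scD_steinberg {n : ℕ} (a b : κˣ) (h : (a : κ) + b = 1) (v : D κ n) :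
    sc a (scD b v) = 0 := by
  cases n with
  | zero => exact map_zero _
  | succ n => exact sc_sc_steinberg a b h v

theorem sc_scD_neg_self {n : ℕ} (a : κˣ) (v : D κ n) : sc a (scD (-a) v) = 0 := by
  cases n with
  | zero => exact map_zero _
  | succ n => exact sc_sc_neg_self a v

theorem sc_scD_anticomm {n : ℕ} (a b : κˣ) (v : D κ n) :
    sc a (scD b v) = -sc b (scD a v) := by
  cases n with
  | zero => exact (map_zero _).trans (neg_eq_zero.mpr (map_zero _)).symm
  | succ n => exact sc_sc_anticomm a b v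

/-- The combination occurring in the residue of a product. -/
noncomputable def opE {n : ℕ} (e : ℤ) (a : κˣ) (w : K κ n) (v : D κ n) : K κ n :=
  e • w - scD a v + e • scD (-1) v

theorem opE_opE_eq_zero {n : ℕ} (e f : ℤ) (a b : κˣ)
    (h : (f = 0 ∧ b = 1) ∨ (e = 0 ∧ a = 1) ∨ (e = 0 ∧ f = 0 ∧ (a : κ) + b = 1) ∨ (f = e ∧ b = -a))
    (w : K κ n) (v : D κ n) :
    opE e a (sc b w) (ofK (opE f b w v)) = 0 := by
  simp only [opE, scD_ofK]
  rcases h with ⟨rfl, rfl⟩ | ⟨rfl, rfl⟩ | ⟨rfl, rfl, h⟩ | ⟨rfl, rfl⟩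
  · simp
  · simp
  · simp [sc_scD_steinberg a b h v]
  · have h2 : scD (-a) v = scD (-1 : κˣ) v + scD a v := by
      rw [← scD_mul]; simp
    have h3 : sc (-a) w = sc (-1 : κˣ) w + sc a w := by
      rw [← sc_mul_apply]; simp
    have h1 := sc_scD_neg_self a v
    rw [h2, map_add] at h1
    have h4 := sc_scD_anticomm (-1) a v
    obtain ⟨q, hq⟩ := Int.even_mul_succ_self f
    have t1 : (f * (f + 1)) • sc (-1 : κˣ) w = 0 := by
      rw [hq, ← two_mul, mul_comm, mul_smul, two_smul_sc_neg_one, smul_zero]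
    obtain ⟨r, hr⟩ := Int.even_mul_succ_self (f - 1)
    have t2 : (f * f - f) • sc (-1 : κˣ) (scD (-1 : κˣ) v) = 0 := by
      rw [show f * f - f = (f - 1) * (f - 1 + 1) by ring, hr, ← two_mul, mul_comm, mul_smul,
        two_smul_sc_neg_one, smul_zero]
    simp only [map_sub, map_add, map_zsmul, h2, h3, h4]
    linear_combination (norm := module) t1 + t2 + h1

variable {A : Type u} [CommRing A] [IsDomain A] [IsDiscreteValuationRing A]
  {L : Type v} [Field L] [Algebra A L] [IsFractionRing A L] (p : Unif A)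

/-- The specialisation map. -/
noncomputable def spec (n : ℕ) : K L n →+ K (ResidueField A) n :=
  lift ((symM (ResidueField A) n).compLinearMap fun _ => p.res.toAdditive.toIntLinearMap) (by
    intro x hx
    obtain ⟨i, j, hij, h⟩ := hx
    change symbol (fun k => p.res (x k)) = 0
    rcases p.steinberg_cases _ _ h with ⟨-, -, h1⟩ | ⟨-, -, h1⟩ | ⟨-, -, h1⟩ | ⟨-, -, h1⟩
    · exact symbol_eq_zero_of_eq_one _ j h1
    · exact symbol_eq_zero_of_eq_one _ i h1
    · exact symbol_steinberg _ hij.ne h1
    · have := symbol_update_neg_self (fun k => p.res (x k)) hij.ne (p.res (x i))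
      rwa [update_eq_self (f := fun k => p.res (x k)) i, ← h1,
        update_eq_self (f := fun k => p.res (x k)) j] at this)

@[simp]
theorem spec_symbol {n : ℕ} (x : Fin n → Lˣ) :
    spec p n (symbol x) = symbol fun i => p.res (x i) := by
  rw [spec, lift_symbol]
  rfl

theorem spec_sc {n : ℕ} (a : Lˣ) (z : K L n) :
    spec p (n + 1) (sc a z) = sc (p.res a) (spec p n z) := by
  induction z using symbol_induction with
  | hs x =>
    rw [sc_symbol, spec_symbol, spec_symbol, sc_symbol]
    congr 1
    funext i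
    cases i using Fin.cases <;> simp
  | h0 => simp
  | ha a b ha hb => simp [ha, hb]
  | hn a ha => simp [ha]

theorem spec_isSpecMap (n : ℕ) : IsSpecMap A L p.ϖ p.irr n (spec p n) := by
  intro e u
  rw [spec_symbol]
  exact congrArg _ (funext fun i => p.res_split (e i) (u i))

/-- The step of the recursion for the residue map. -/
noncomputable def phi {n : ℕ} (d : K L n →+ D (ResidueField A) n) :
    Additive Lˣ →+ K L n →+ K (ResidueField A) n :=
  AddMonoidHom.mk'
    (fun a => AddMonoidHom.mk' (fun z => opE (p.ord a) (p.res a.toMul) (spec p n z) (d z))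
      (fun z z' => by simp only [opE, map_add, smul_add]; abel))
    (fun a b => by
      ext z
      simp only [opE, map_add, toMul_add, map_mul, scD_mul, add_smul, AddMonoidHom.add_apply,
        AddMonoidHom.mk'_apply]
      abel)

/-- The shape of the residue on a product, needed for the recursion. -/
def Shape : (n : ℕ) → (K L n →+ D (ResidueField A) n) → Prop
  | 0, _ => True
  | m + 1, d => ∀ (b : Lˣ) (z : K L m), ∃ v : D (ResidueField A) m,
      d (sc b z) = ofK (opE (p.ord (Additive.ofMul b)) (p.res b) (spec p m z) v)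

theorem phi_steinberg {n : ℕ} (d : K L n →+ D (ResidueField A) n) (hd : Shape p n d)
    (a : Lˣ) (y : Fin n → Lˣ) (j : Fin n) (h : (a : L) + y j = 1) :
    phi p d (Additive.ofMul a) (symbol y) = 0 := by
  cases n with
  | zero => exact j.elim0
  | succ m =>
    obtain ⟨z, hz⟩ := exists_sc_eq_symbol y j
    obtain ⟨v, hv⟩ := hd (y j) z
    change opE (p.ord (Additive.ofMul a)) (p.res a) (spec p (m + 1) (symbol y)) (d (symbol y)) = 0
    rw [hz, hv, spec_sc]
    refine opE_opE_eq_zero _ _ _ _ ?_ _ _
    rcases p.steinberg_cases _ _ h with ⟨-, h1, h2⟩ | ⟨-, h1, h2⟩ | h1 | ⟨-, h1, h2⟩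
    · exact Or.inl ⟨h1, h2⟩
    · exact Or.inr (Or.inl ⟨h1, h2⟩)
    · exact Or.inr (Or.inr (Or.inl h1))
    · exact Or.inr (Or.inr (Or.inr ⟨h1, h2⟩))

/-- The residue map in all degrees. -/
noncomputable def tameAux : (n : ℕ) → {d : K L n →+ D (ResidueField A) n // Shape p n d}
  | 0 => ⟨0, trivial⟩
  | n + 1 =>
    ⟨ofK.comp (uncons (phi p (tameAux n).1) (phi_steinberg p _ (tameAux n).2)),
      fun b z => ⟨(tameAux n).1 z, congrArg ofK (uncons_sc (phi p (tameAux n).1) (phi_steinberg p _ (tameAux n).2) b z)⟩⟩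

/-- The residue map. -/
noncomputable def tame (n : ℕ) : K L (n + 1) →+ K (ResidueField A) n := toK.comp (tameAux p (n + 1)).1

theorem tameAux_sc {n : ℕ} (b : Lˣ) (z : K L n) :
    (tameAux p (n + 1)).1 (sc b z) =
      ofK (opE (p.ord (Additive.ofMul b)) (p.res b) (spec p n z) ((tameAux p n).1 z)) :=
  by
  have h := uncons_sc (phi p (tameAux p n).1) (phi_steinberg p _ (tameAux p n).2) b z
  simp only [tameAux, AddMonoidHom.comp_apply]
  exact congrArg _ h

theorem tameAux_units {n : ℕ} (x : Fin n → Lˣ) (h : ∀ i, p.ord (Additive.ofMul (x i)) = 0) :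
    (tameAux p n).1 (symbol x) = 0 := by
  induction n with
  | zero => rfl
  | succ n ih =>
    rw [← Fin.cons_self_tail x, ← sc_symbol, tameAux_sc, ih (Fin.tail x) fun i => h _, h 0]
    simp [opE]

theorem tame_sc_units {n : ℕ} (b : Lˣ) (u : Fin n → Aˣ) :
    tame p n (sc b (symbol fun i => unitToFrac A L (u i))) =
      p.ord (Additive.ofMul b) • symbol fun i => unitResidue A (u i) := by
  rw [tame, AddMonoidHom.comp_apply, tameAux_sc, tameAux_units p _ fun i => p.ord_unit (u i)]
  simp [opE]

theorem tame_isTameSymbol (n : ℕ) : IsTameSymbol A L n (tame p n) := by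
  intro ϖ' hϖ' u
  obtain ⟨w, hw⟩ := IsDiscreteValuationRing.associated_of_irreducible A p.irr hϖ'
  have : unitFrac A L ϖ' hϖ'.ne_zero = p.pi L ^ (1 : ℤ) * unitToFrac A L w := by
    ext
    simp [← hw]
  rw [← sc_symbol, tame_sc_units, this, p.ord_split, one_smul]

end Groth.Agent.MilK95
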