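import Groth.Agent.MilK95.Tame
import Mathlib.Algebra.Group.Subgroup.Ker
import Mathlib.GroupTheory.QuotientGroup.Basic

/-!
Uniqueness of the residue map, its kernel, and the kernel of the pair (specialisation, residue).
-/

set_option linter.unusedSectionVars false

universe u v

open MilK IsLocalRing Function

namespace Groth.Agent.MilK95

variable (A : Type u) [CommRing A] [IsDomain A] [IsDiscreteValuationRing A]
  (L : Type v) [Field L] [Algebra A L] [IsFractionRing A L]

/-- The subgroup generated by symbols of units. -/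
def unitsSub (n : ℕ) : AddSubgroup (K L n) :=
  AddSubgroup.closure {z | ∃ u : Fin n → Aˣ, z = symbol (fun i => unitToFrac A L (u i))}

/-- The subgroup generated by symbols starting with a unit congruent to one. -/
def oneSub : (n : ℕ) → AddSubgroup (K L n)
  | 0 => ⊥
  | n + 1 => AddSubgroup.closure {z | ∃ (u₀ : Aˣ) (w : Fin n → Lˣ),
      residue A (u₀ : A) = 1 ∧ z = symbol (Fin.cons (unitToFrac A L u₀) w)}

variable {A L}

theorem symbol_mem_unitsSub {n : ℕ} (u : Fin n → Aˣ) :
    symbol (fun i => unitToFrac A L (u i)) ∈ unitsSub A L n :=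
  AddSubgroup.subset_closure ⟨u, rfl⟩

theorem zero_mem_unitsSub_top (z : K L 0) : z ∈ unitsSub A L 0 := by
  induction z using symbol_induction with
  | hs x =>
    rw [show x = fun i => unitToFrac A L ((Fin.elim0 i : Aˣ)) from funext fun i => i.elim0]
    exact symbol_mem_unitsSub _
  | h0 => exact AddSubgroup.zero_mem _
  | ha a b ha hb => exact AddSubgroup.add_mem _ ha hb
  | hn a ha => exact AddSubgroup.neg_mem _ ha

theorem sc_unit_mem {n : ℕ} (u : Aˣ) {z : K L n} (hz : z ∈ unitsSub A L n) :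
    sc (unitToFrac A L u) z ∈ unitsSub A L (n + 1) := by
  refine (AddSubgroup.closure_le (K := (unitsSub A L (n + 1)).comap (sc (unitToFrac A L u)))).mpr ?_ hz
  rintro _ ⟨v, rfl⟩
  simp only [SetLike.mem_coe, AddSubgroup.mem_comap, sc_symbol]
  convert! symbol_mem_unitsSub (L := L) (Fin.cons u v) using 2
  funext i
  cases i using Fin.cases <;> simp

variable (p : Unif A)

theorem exists_unitsSub_add : ∀ (n : ℕ) (z : K L (n + 1)), ∃ a ∈ unitsSub A L (n + 1),
    ∃ b ∈ unitsSub A L n, z = a + sc (p.pi L) b := by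
  have step : ∀ {n : ℕ}, (∀ z : K L n, ∃ a ∈ unitsSub A L n, ∀ x : Lˣ,
        ∃ a' ∈ unitsSub A L (n + 1), ∃ b' ∈ unitsSub A L n, sc x (z - a) = a' + sc (p.pi L) b') →
      ∀ z : K L (n + 1), ∃ a ∈ unitsSub A L (n + 1), ∃ b ∈ unitsSub A L n,
        z = a + sc (p.pi L) b := by
    intro n h z
    induction z using symbol_induction with
    | hs x =>
      obtain ⟨a, ha, h'⟩ := h (symbol (Fin.tail x))
      obtain ⟨a', ha', b', hb', e⟩ := h' (x 0)
      refine ⟨a' + sc (unitToFrac A L (p.up (x 0))) a, add_mem ha' (sc_unit_mem _ ha),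
        b' + p.ord (Additive.ofMul (x 0)) • a, add_mem hb' (AddSubgroup.zsmul_mem _ ha _), ?_⟩
      rw [map_sub] at e
      conv_lhs => rw [← Fin.cons_self_tail x, ← sc_symbol, ← sub_add_cancel (sc (x 0) (symbol _)) (sc (x 0) a), e]
      conv_lhs => arg 2; rw [p.eq_split (x 0)]
      rw [sc_mul_apply, sc_zpow, map_add, map_zsmul]
      abel
    | h0 => exact ⟨0, zero_mem _, 0, zero_mem _, by simp⟩
    | ha y y' hy hy' =>
      obtain ⟨a, ha, b, hb, rfl⟩ := hy
      obtain ⟨a', ha', b', hb', rfl⟩ := hy'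
      exact ⟨a + a', add_mem ha ha', b + b', add_mem hb hb', by rw [map_add]; abel⟩
    | hn y hy =>
      obtain ⟨a, ha, b, hb, rfl⟩ := hy
      exact ⟨-a, neg_mem ha, -b, neg_mem hb, by rw [map_neg]; abel⟩
  intro n
  induction n with
  | zero =>
    exact step fun z => ⟨z, zero_mem_unitsSub_top z, fun x => ⟨0, zero_mem _, 0, zero_mem _, by simp⟩⟩
  | succ n ih =>
    refine step fun z => ?_
    obtain ⟨a, ha, b, hb, rfl⟩ := ih z
    refine ⟨a, ha, fun x => ⟨0, zero_mem _,
      p.ord (Additive.ofMul x) • sc (unitToFrac A L (-1)) b - sc (unitToFrac A L (p.up x)) b, ?_, ?_⟩⟩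
    · exact sub_mem (AddSubgroup.zsmul_mem _ (sc_unit_mem _ hb) _) (sc_unit_mem _ hb)
    · rw [add_sub_cancel_left, zero_add]
      conv_lhs => rw [p.eq_split x]
      rw [sc_mul_apply, sc_zpow, sc_sc_self, sc_sc_anticomm (unitToFrac A L (p.up x)), map_sub, map_zsmul,
        sub_eq_add_neg, show unitToFrac A L (-1) = -1 from Units.ext (by simp)]

variable {n : ℕ}

theorem tame_zero_on_units {d : K L (n + 1) →+ K (ResidueField A) n} (hd : IsTameSymbol A L n d)
    (u : Fin (n + 1) → Aˣ) : d (symbol fun i => unitToFrac A L (u i)) = 0 := by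
  obtain ⟨ϖ, hϖ⟩ := IsDiscreteValuationRing.exists_irreducible A
  have hϖ' : Irreducible (ϖ * (u 0 : A)) := (irreducible_mul_units (u 0)).mpr hϖ
  have h1 := hd ϖ hϖ (Fin.tail u)
  have h2 := hd _ hϖ' (Fin.tail u)
  rw [← sc_symbol] at h1 h2
  rw [show (unitFrac A L (ϖ * (u 0 : A)) hϖ'.ne_zero) = unitFrac A L ϖ hϖ.ne_zero * unitToFrac A L (u 0) from
    Units.ext (by simp), sc_mul_apply, map_add, h1] at h2
  rw [← Fin.cons_self_tail (fun i => unitToFrac A L (u i)), ← sc_symbol]
  exact add_eq_left.mp h2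

theorem tame_zero_of_mem {d : K L (n + 1) →+ K (ResidueField A) n} (hd : IsTameSymbol A L n d)
    {z : K L (n + 1)} (hz : z ∈ unitsSub A L (n + 1)) : d z = 0 := by
  refine (AddSubgroup.closure_le (K := d.ker)).mpr ?_ hz
  rintro _ ⟨u, rfl⟩
  exact tame_zero_on_units hd u

theorem tame_sc_pi_of_mem {d : K L (n + 1) →+ K (ResidueField A) n} (hd : IsTameSymbol A L n d)
    {b : K L n} (hb : b ∈ unitsSub A L n) : d (sc (p.pi L) b) = spec p n b := by
  refine (AddSubgroup.closure_le (K := (d.comp (sc (p.pi L)) - spec p n).ker)).mpr ?_ hb |> sub_eq_zero.mp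
  rintro _ ⟨u, rfl⟩
  simp only [SetLike.mem_coe, AddMonoidHom.mem_ker, AddMonoidHom.sub_apply, AddMonoidHom.comp_apply]
  rw [sub_eq_zero, sc_symbol, spec_symbol, Unif.pi, hd p.ϖ p.irr u]
  simp

theorem tame_unique {d : K L (n + 1) →+ K (ResidueField A) n} (hd : IsTameSymbol A L n d) :
    d = tame p n := by
  ext z
  obtain ⟨a, ha, b, hb, rfl⟩ := exists_unitsSub_add p n z
  rw [map_add, map_add, tame_zero_of_mem hd ha, tame_zero_of_mem (tame_isTameSymbol p n) ha,
    tame_sc_pi_of_mem p hd hb, tame_sc_pi_of_mem p (tame_isTameSymbol p n) hb]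

theorem spec_unique {s : K L n →+ K (ResidueField A) n} (hs : IsSpecMap A L p.ϖ p.irr n s) :
    s = spec p n := by
  refine hom_ext fun x => ?_
  have hx : x = fun i => p.pi L ^ p.ord (Additive.ofMul (x i)) * unitToFrac A L (p.up (x i)) :=
    funext fun i => p.eq_split (x i)
  rw [hx]
  exact (hs _ _).trans (spec_isSpecMap p n _ _).symm

theorem sc_pi_sc_one_mem_aux (c a : Aˣ) (hc : (c : A) = 1 - p.ϖ * a) {z : K L n}
    (hz : z ∈ unitsSub A L n) :
    sc (p.pi L) (sc (unitToFrac A L c) z) ∈ unitsSub A L (n + 2) := by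
  have h := sc_sc_steinberg (p.pi L * unitToFrac A L a) (unitToFrac A L c) (by simp [hc]) z
  rw [sc_mul_apply] at h
  rw [eq_neg_of_add_eq_zero_left h]
  exact neg_mem (sc_unit_mem _ (sc_unit_mem _ hz))

theorem residue_unif : residue A p.ϖ = 0 :=
  (residue_eq_zero_iff _).mpr
    ((IsDiscreteValuationRing.irreducible_iff_uniformizer _).mp p.irr ▸ Ideal.mem_span_singleton_self _)

theorem sc_pi_sc_one_mem (c : Aˣ) (hc : residue A (c : A) = 1) {z : K L n}
    (hz : z ∈ unitsSub A L n) :
    sc (p.pi L) (sc (unitToFrac A L c) z) ∈ unitsSub A L (n + 2) := by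
  obtain ⟨a, ha⟩ : ∃ a, 1 - (c : A) = p.ϖ * a := by
    have : 1 - (c : A) ∈ maximalIdeal A := by rw [← residue_eq_zero_iff, map_sub, map_one, hc, sub_self]
    rwa [(IsDiscreteValuationRing.irreducible_iff_uniformizer _).mp p.irr, Ideal.mem_span_singleton] at this
  by_cases hu : IsUnit a
  · exact sc_pi_sc_one_mem_aux p c hu.unit (by rw [IsUnit.unit_spec, ← ha]; ring) hz
  have hq : residue A a = 0 := (residue_eq_zero_iff a).mpr hu
  have h1 : IsUnit (1 + p.ϖ) := by
    rw [← residue_ne_zero_iff_isUnit, map_add, map_one, residue_unif, add_zero]; exact one_ne_zero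
  have h2 : IsUnit ((a + 1) * ((h1.unit⁻¹ : Aˣ) : A)) := by
    refine IsUnit.mul ?_ (Units.isUnit _)
    rw [← residue_ne_zero_iff_isUnit, map_add, map_one, hq, zero_add]; exact one_ne_zero
  rw [show c = h1.unit * (c * h1.unit⁻¹) by rw [mul_comm c, mul_inv_cancel_left], map_mul,
    sc_mul_apply, map_add]
  refine add_mem (sc_pi_sc_one_mem_aux p _ (-1) (by simp) hz) (sc_pi_sc_one_mem_aux p _ h2.unit ?_ hz)
  rw [IsUnit.unit_spec, Units.val_mul]
  have e := h1.mul_val_inv
  linear_combination -((h1.unit⁻¹ : Aˣ) : A) * ha + e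

theorem sc_unitOne_mem (c : Aˣ) (hc : residue A (c : A) = 1) (z : K L n) :
    sc (unitToFrac A L c) z ∈ unitsSub A L (n + 1) := by
  obtain ⟨p⟩ : Nonempty (Unif A) := let ⟨ϖ, h⟩ := IsDiscreteValuationRing.exists_irreducible A; ⟨⟨ϖ, h⟩⟩
  cases n with
  | zero => exact sc_unit_mem _ (zero_mem_unitsSub_top z)
  | succ n =>
    obtain ⟨a, ha, b, hb, rfl⟩ := exists_unitsSub_add p n z
    rw [map_add, sc_sc_anticomm]
    exact add_mem (sc_unit_mem _ ha) (neg_mem (sc_pi_sc_one_mem p c hc hb))

theorem oneSub_le_unitsSub : ∀ n, oneSub A L n ≤ unitsSub A L n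
  | 0 => bot_le
  | n + 1 => by
    rw [oneSub, AddSubgroup.closure_le]
    rintro _ ⟨c, w, hc, rfl⟩
    rw [← sc_symbol]
    exact sc_unitOne_mem c hc _

theorem sc_one_mem_oneSub (c : Aˣ) (hc : residue A (c : A) = 1) (z : K L n) :
    sc (unitToFrac A L c) z ∈ oneSub A L (n + 1) := by
  induction z using symbol_induction with
  | hs x => rw [sc_symbol]; exact AddSubgroup.subset_closure ⟨c, x, hc, rfl⟩
  | h0 => rw [map_zero]; exact zero_mem _
  | ha a b ha hb => rw [map_add]; exact add_mem ha hb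
  | hn a ha => rw [map_neg]; exact neg_mem ha

theorem sc_mem_oneSub : ∀ {n : ℕ} (x : Lˣ) {z : K L n}, z ∈ oneSub A L n → sc x z ∈ oneSub A L (n + 1)
  | 0, x, z, hz => by rw [oneSub, AddSubgroup.mem_bot] at hz; simp [hz]
  | n + 1, x, z, hz => by
    refine (AddSubgroup.closure_le (K := (oneSub A L (n + 2)).comap (sc x))).mpr ?_ hz
    rintro _ ⟨c, w, hc, rfl⟩
    rw [SetLike.mem_coe, AddSubgroup.mem_comap, ← sc_symbol, sc_sc_anticomm]
    exact neg_mem (sc_one_mem_oneSub c hc _)

theorem sc_pi_oneSub_mem : ∀ {n : ℕ} {z : K L n}, z ∈ oneSub A L n → sc (p.pi L) z ∈ unitsSub A L (n + 1) :=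
  fun hz => oneSub_le_unitsSub _ (sc_mem_oneSub _ hz)

theorem symbol_sub_mem_oneSub : ∀ {n : ℕ} (u w : Fin n → Aˣ),
    (∀ i, unitResidue A (u i) = unitResidue A (w i)) →
      symbol (fun i => unitToFrac A L (u i)) - symbol (fun i => unitToFrac A L (w i)) ∈ oneSub A L n
  | 0, u, w, _ => by rw [show u = w from funext fun i => i.elim0, sub_self]; exact zero_mem _
  | n + 1, u, w, h => by
    have hc : residue A ((u 0 * (w 0)⁻¹ : Aˣ) : A) = 1 := by
      have e : unitResidue A (u 0 * (w 0)⁻¹) = 1 := by rw [map_mul, map_inv, h 0, mul_inv_cancel]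
      exact congrArg Units.val e
    have ih : symbol (fun i => unitToFrac A L (Fin.tail u i)) - symbol (fun i => unitToFrac A L (Fin.tail w i)) ∈ oneSub A L n :=
      symbol_sub_mem_oneSub (Fin.tail u) (Fin.tail w) fun i => h i.succ
    have hh := add_mem (sc_one_mem_oneSub _ hc (symbol fun i => unitToFrac A L (Fin.tail u i)))
      (sc_mem_oneSub (unitToFrac A L (w 0)) ih)
    rw [map_sub, map_mul, map_inv, sc_mul_apply, sc_inv, sc_symbol, sc_symbol, sc_symbol] at hh
    have hu : (Fin.cons (unitToFrac A L (u 0)) fun i => unitToFrac A L (Fin.tail u i) : Fin (n + 1) → Lˣ) =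
        fun i => unitToFrac A L (u i) := by funext i; cases i using Fin.cases <;> rfl
    have hw : (Fin.cons (unitToFrac A L (w 0)) fun i => unitToFrac A L (Fin.tail w i) : Fin (n + 1) → Lˣ) =
        fun i => unitToFrac A L (w i) := by funext i; cases i using Fin.cases <;> rfl
    rw [hu, hw] at hh
    convert! hh using 1
    abel

theorem unitResidue_surjective : Function.Surjective (unitResidue A) := by
  intro x
  obtain ⟨a, ha⟩ := residue_surjective (R := A) (x : ResidueField A)
  have h : IsUnit a := by rw [← residue_ne_zero_iff_isUnit, ha]; exact x.ne_zero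
  exact ⟨h.unit, Units.ext (by simpa [unitResidue] using ha)⟩

theorem exists_lift_hom (n : ℕ) : ∃ g : K (ResidueField A) n →+ K L n ⧸ oneSub A L n,
    ∀ u : Fin n → Aˣ, g (symbol fun i => unitResidue A (u i)) =
      QuotientAddGroup.mk (symbol fun i => unitToFrac A L (u i)) := by
  classical
  choose σ hσ using unitResidue_surjective (A := A)
  let val : (Fin n → (ResidueField A)ˣ) → K L n ⧸ oneSub A L n :=
    fun x => QuotientAddGroup.mk (symbol fun i => unitToFrac A L (σ (x i)))
  have indep : ∀ (x : Fin n → (ResidueField A)ˣ) (u : Fin n → Aˣ),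
      (∀ i, unitResidue A (u i) = x i) →
        val x = QuotientAddGroup.mk (symbol fun i => unitToFrac A L (u i)) := fun x u h =>
    (QuotientAddGroup.eq_iff_sub_mem).mpr
      (symbol_sub_mem_oneSub _ _ fun i => by rw [hσ, h])
  have hupd : ∀ (u : Fin n → Aˣ) (i : Fin n) (a : Aˣ),
      (fun j => unitToFrac A L (update u i a j)) = update (fun j => unitToFrac A L (u j)) i (unitToFrac A L a) :=
    fun u i a => funext fun j => apply_update (fun _ => unitToFrac A L) u i a j
  have hres : ∀ (x : Fin n → (ResidueField A)ˣ) (i : Fin n) (a : Aˣ) (b : (ResidueField A)ˣ),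
      unitResidue A a = b → ∀ j, unitResidue A (update (fun j => σ (x j)) i a j) = update x i b j := by
    intro x i a b h j
    rcases eq_or_ne j i with rfl | hj
    · simp [h]
    · simp [update_of_ne hj, hσ]
  have add : ∀ (x : Fin n → (ResidueField A)ˣ) (i : Fin n) (a b : (ResidueField A)ˣ),
      val (update x i (a * b)) = val (update x i a) + val (update x i b) := by
    intro x i a b
    rw [indep _ _ (hres x i (σ a * σ b) (a * b) (by simp [hσ])), indep _ _ (hres x i (σ a) a (hσ a)),
      indep _ _ (hres x i (σ b) b (hσ b)), hupd, hupd, hupd, map_mul, symbol_update_mul,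
      QuotientAddGroup.mk_add]
  let f : MultilinearMap ℤ (fun _ : Fin n => Additive (ResidueField A)ˣ) (K L n ⧸ oneSub A L n) :=
    MultilinearMap.mk' (fun x => val fun i => (x i).toMul)
      (fun x i a b => by
        have e : ∀ c, (fun j => (update x i c j).toMul) = update (fun j => (x j).toMul) i c.toMul :=
          fun c => funext fun j => apply_update (fun _ => Additive.toMul) x i c j
        simp only [e, toMul_add, add])
      (fun x i c a => by
        have e : ∀ c, (fun j => (update x i c j).toMul) = update (fun j => (x j).toMul) i c.toMul :=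
          fun c => funext fun j => apply_update (fun _ => Additive.toMul) x i c j
        simp only [e, toMul_zsmul]
        have hh := map_zsmul (AddMonoidHom.mk' (fun t : Additive (ResidueField A)ˣ =>
          val (update (fun j => (x j).toMul) i t.toMul)) fun s t => add _ i _ _) c a
        simp only [AddMonoidHom.mk'_apply, toMul_zsmul] at hh
        exact hh)
  refine ⟨lift f ?_, fun u => ?_⟩
  · rintro x ⟨i, j, hij, h⟩
    have hu : IsUnit (1 - (σ (x i) : A)) := by
      rw [← residue_ne_zero_iff_isUnit, map_sub, map_one,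
        show residue A (σ (x i) : A) = (x i : ResidueField A) from congrArg Units.val (hσ (x i)),
        ← h, add_sub_cancel_left]
      exact (x j).ne_zero
    change val x = 0
    have hj : unitResidue A hu.unit = x j := by
      ext
      change residue A (1 - (σ (x i) : A)) = _
      rw [map_sub, map_one,
        show residue A (σ (x i) : A) = (x i : ResidueField A) from congrArg Units.val (hσ (x i)),
        ← h, add_sub_cancel_left]
    have := indep (update x j (x j)) _ (hres x j hu.unit (x j) hj)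
    rw [update_eq_self] at this
    rw [this, symbol_steinberg _ hij.ne (by simp [update_of_ne hij.ne]), QuotientAddGroup.mk_zero]
  · rw [lift_symbol]
    exact indep _ _ fun i => rfl

theorem mem_oneSub_of_spec_eq_zero {b : K L n} (hb : b ∈ unitsSub A L n) (h : spec p n b = 0) :
    b ∈ oneSub A L n := by
  obtain ⟨g, hg⟩ := exists_lift_hom (A := A) (L := L) n
  have key : ∀ z ∈ unitsSub A L n, g (spec p n z) = QuotientAddGroup.mk z := by
    intro z hz
    refine sub_eq_zero.mp ((AddSubgroup.closure_le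
      (K := (g.comp (spec p n) - QuotientAddGroup.mk' (oneSub A L n)).ker)).mpr ?_ hz)
    rintro _ ⟨u, rfl⟩
    simp only [SetLike.mem_coe, AddMonoidHom.mem_ker, AddMonoidHom.sub_apply, AddMonoidHom.comp_apply,
      spec_symbol, Unif.res_unit, hg]
    exact sub_self _
  have h' := key b hb
  rw [h, map_zero] at h'
  exact (QuotientAddGroup.eq_zero_iff b).mp h'.symm

theorem tame_ker {d : K L (n + 1) →+ K (ResidueField A) n} (hd : IsTameSymbol A L n d) :
    d.ker = unitsSub A L (n + 1) := by
  obtain ⟨p⟩ : Nonempty (Unif A) := let ⟨ϖ, h⟩ := IsDiscreteValuationRing.exists_irreducible A; ⟨⟨ϖ, h⟩⟩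
  refine le_antisymm (fun z hz => ?_) fun z hz => tame_zero_of_mem hd hz
  obtain ⟨a, ha, b, hb, rfl⟩ := exists_unitsSub_add p n z
  rw [AddMonoidHom.mem_ker, map_add, tame_zero_of_mem hd ha, zero_add, tame_sc_pi_of_mem p hd hb] at hz
  exact add_mem ha (sc_pi_oneSub_mem p (mem_oneSub_of_spec_eq_zero p hb hz))

theorem exists_units_spec_eq (y : K (ResidueField A) n) :
    ∃ b ∈ unitsSub A L n, spec p n b = y := by
  induction y using symbol_induction with
  | hs x =>
    choose σ hσ using unitResidue_surjective (A := A)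
    refine ⟨_, symbol_mem_unitsSub fun i => σ (x i), ?_⟩
    simp [spec_symbol, hσ]
  | h0 => exact ⟨0, zero_mem _, map_zero _⟩
  | ha a b ha hb =>
    obtain ⟨a', ha', rfl⟩ := ha
    obtain ⟨b', hb', rfl⟩ := hb
    exact ⟨a' + b', add_mem ha' hb', map_add _ _ _⟩
  | hn a ha =>
    obtain ⟨a', ha', rfl⟩ := ha
    exact ⟨-a', neg_mem ha', map_neg _ _⟩

theorem tame_surjective {d : K L (n + 1) →+ K (ResidueField A) n} (hd : IsTameSymbol A L n d) :
    Function.Surjective d := by
  intro y
  obtain ⟨p⟩ : Nonempty (Unif A) := let ⟨ϖ, h⟩ := IsDiscreteValuationRing.exists_irreducible A; ⟨⟨ϖ, h⟩⟩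
  obtain ⟨b, hb, rfl⟩ := exists_units_spec_eq (L := L) p y
  exact ⟨_, tame_sc_pi_of_mem p hd hb⟩

theorem pair_surjective (x : K (ResidueField A) (n + 1)) (y : K (ResidueField A) n) :
    ∃ z : K L (n + 1), spec p (n + 1) z = x ∧ tame p n z = y := by
  obtain ⟨a, ha, rfl⟩ := exists_units_spec_eq (L := L) p x
  obtain ⟨b, hb, rfl⟩ := exists_units_spec_eq (L := L) p y
  refine ⟨a + sc (p.pi L) b, ?_, ?_⟩
  · rw [map_add, spec_sc, Unif.res_pi, sc_one, add_zero]
  · rw [map_add, tame_zero_of_mem (tame_isTameSymbol p n) ha,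
      tame_sc_pi_of_mem p (tame_isTameSymbol p n) hb, zero_add]

theorem pair_ker (z : K L (n + 1)) :
    (spec p (n + 1) z = 0 ∧ tame p n z = 0) ↔ z ∈ oneSub A L (n + 1) := by
  constructor
  · rintro ⟨h1, h2⟩
    rw [← AddMonoidHom.mem_ker, tame_ker (tame_isTameSymbol p n)] at h2
    exact mem_oneSub_of_spec_eq_zero p h2 h1
  · intro hz
    refine ⟨?_, tame_zero_of_mem (tame_isTameSymbol p n) (oneSub_le_unitsSub _ hz)⟩
    refine (AddSubgroup.closure_le (K := (spec p (n + 1)).ker)).mpr ?_ hz
    rintro _ ⟨c, w, hc, rfl⟩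
    rw [SetLike.mem_coe, AddMonoidHom.mem_ker, ← sc_symbol, spec_sc, Unif.res_unit,
      show unitResidue A c = 1 from Units.ext hc, sc_one]

theorem tame_sc {x : Lˣ} (z : K L n) :
    tame p n (sc x z) =
      p.ord (Additive.ofMul x) • spec p n z - scD (p.res x) ((tameAux p n).1 z) +
        p.ord (Additive.ofMul x) • scD (-1) ((tameAux p n).1 z) := by
  rw [tame, AddMonoidHom.comp_apply, tameAux_sc, toK_ofK]
  rfl

end Groth.Agent.MilK95
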